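import Groth.Agent.S7723
import Groth.Agent.CSALib.Descent
import Groth.Prelude.Def_GalDesc

/-!
# Descent for twisted forms
-/

set_option autoImplicit false

universe u v w x y

open scoped TensorProduct

namespace GalDescLib

variable {k : Type u} [Field k] {K : Type v} [Field K] [Algebra k K]

section Twisted

variable {M : Type w} [AddCommGroup M] [Module K M] [Module k M] [IsScalarTower k K M]
  [DistribMulAction (K ≃ₐ[k] K) M] [SMulDistribClass (K ≃ₐ[k] K) K M]
  (a : GpH1.OneCocycle (K ≃ₐ[k] K) (M ≃ₗ[K] M))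

theorem cocycle_one {G : Type*} {A : Type*} [Group G] [Group A] [MulDistribMulAction G A]
    (a : GpH1.OneCocycle G A) : a 1 = 1 := by
  have := a.2 1 1
  rw [mul_one, one_smul] at this
  exact left_eq_mul.1 this

/-- The module with the twisted action. -/
def Tw (_a : GpH1.OneCocycle (K ≃ₐ[k] K) (M ≃ₗ[K] M)) : Type w := M

instance : AddCommGroup (Tw a) := inferInstanceAs (AddCommGroup M)
instance : Module K (Tw a) := inferInstanceAs (Module K M)
instance : Module k (Tw a) := inferInstanceAs (Module k M)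
instance : IsScalarTower k K (Tw a) := inferInstanceAs (IsScalarTower k K M)

noncomputable instance : DistribMulAction (K ≃ₐ[k] K) (Tw a) where
  smul σ x := a σ (σ • (show M from x))
  one_smul x := by
    change a 1 ((1 : K ≃ₐ[k] K) • (show M from x)) = x
    rw [one_smul, cocycle_one a]
    rfl
  mul_smul σ τ x := by
    change a (σ * τ) ((σ * τ) • (show M from x)) = a σ (σ • (a τ (τ • (show M from x))))
    rw [a.2 σ τ, LinearEquiv.mul_apply, GalDesc.conj_smul_apply, mul_smul, inv_smul_smul]
  smul_zero σ := by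
    change a σ (σ • (0 : M)) = 0
    rw [smul_zero, map_zero]
  smul_add σ x y := by
    change a σ (σ • ((show M from x) + (show M from y))) = a σ (σ • _) + a σ (σ • _)
    rw [smul_add, map_add]

theorem span_fixedSub [FiniteDimensional k K] [IsGalois k K] :
    Submodule.span K (GalDesc.fixedSub a : Set M) = ⊤ :=
  (Groth.Agent.S7723.result k K (Tw a) fun σ c x => by
    change a σ (σ • c • (show M from x)) = σ c • a σ (σ • (show M from x))
    rw [smul_distrib_smul, map_smul, AlgEquiv.smul_def]).1

variable {W : Type x} [AddCommGroup W] [Module k W] (ι : W →ₗ[k] M)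

/-- The comparison map. -/
noncomputable def theta : K ⊗[k] W →ₗ[K] M :=
  TensorProduct.AlgebraTensorModule.lift (LinearMap.toSpanSingleton K _ ι)

omit [DistribMulAction (K ≃ₐ[k] K) M] [SMulDistribClass (K ≃ₐ[k] K) K M] in
theorem theta_tmul (c : K) (z : W) : theta ι (c ⊗ₜ[k] z) = c • ι z := rfl

theorem theta_bijective [FiniteDimensional k K] [IsGalois k K] (hι : Function.Injective ι)
    (hW : LinearMap.range ι = GalDesc.fixedSub a) : Function.Bijective (theta (K := K) ι) := by
  have hli := (Groth.Agent.S7723.result k K (Tw a) fun σ c x => by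
    change a σ (σ • c • (show M from x)) = σ c • a σ (σ • (show M from x))
    rw [smul_distrib_smul, map_smul, AlgEquiv.smul_def]).2
  constructor
  · refine (injective_iff_map_eq_zero _).2 fun z hz => ?_
    let b := Module.Free.chooseBasis k W
    obtain ⟨f, rfl⟩ := TensorProduct.eq_repr_basis_right b z
    let e := Set.range fun i => ι (b i)
    have hinj : Function.Injective fun i => ι (b i) := hι.comp b.injective
    have he : LinearIndependent k (Subtype.val : e → M) :=
      (b.linearIndependent.map' ι (LinearMap.ker_eq_bot.2 hι)).linearIndepOn_id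
    have hK : LinearIndependent K (Subtype.val : e → M) := hli e (Subtype.val) (fun z => by
      obtain ⟨_, i, rfl⟩ := z
      exact (hW ▸ LinearMap.mem_range_self ι (b i) : ι (b i) ∈ GalDesc.fixedSub a)) he
    have hb : LinearIndependent K (fun i => ι (b i)) :=
      hK.comp (fun i => (⟨ι (b i), i, rfl⟩ : e)) fun i j h => hinj (congrArg Subtype.val h)
    have h0 : f = 0 := by
      refine Finsupp.ext fun i => ?_
      by_contra hi
      rw [Finsupp.sum, map_sum] at hz
      simp only [theta_tmul] at hz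
      exact hi (linearIndependent_iff'.1 hb f.support f hz i (Finsupp.mem_support_iff.2 hi))
    simp [h0]
  · intro m
    have htop : (⊤ : Submodule K M) ≤ LinearMap.range (theta (K := K) ι) := by
      rw [← span_fixedSub a, Submodule.span_le]
      intro z hz
      obtain ⟨z, rfl⟩ := (hW ▸ hz : z ∈ LinearMap.range ι)
      exact ⟨1 ⊗ₜ z, by rw [theta_tmul, one_smul]⟩
    exact htop (Submodule.mem_top (x := m))

theorem cocycle_eq_of_symm (hW : LinearMap.range ι = GalDesc.fixedSub a) (g : M ≃ₗ[K] K ⊗[k] W)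
    (hg : ∀ z, g.symm z = theta ι z) : GalDesc.cocycle k g = a := by
  refine GpH1.OneCocycle.ext fun σ => LinearEquiv.ext fun x => ?_
  have key : ∀ z : K ⊗[k] W, theta ι (σ • z) = a σ (σ • theta ι z) := fun z => by
    induction z with
    | zero => simp
    | add p q hp hq => rw [smul_add, map_add, map_add, hp, hq, smul_add, map_add]
    | tmul c z =>
      rw [TensorProduct.smul_tmul', theta_tmul, theta_tmul, smul_distrib_smul, map_smul,
        (hW ▸ LinearMap.mem_range_self ι z : ι z ∈ GalDesc.fixedSub a) σ, AlgEquiv.smul_def]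
  rw [GalDesc.cocycle_apply, hg, key, ← hg, g.symm_apply_apply, smul_inv_smul]

end Twisted

section Morphisms

variable {W : Type x} [AddCommGroup W] [Module k W] {W' : Type y} [AddCommGroup W'] [Module k W']

/-- A Galois-equivariant isomorphism descends. -/
theorem exists_descent [FiniteDimensional k K] [IsGalois k K] (f : K ⊗[k] W ≃ₗ[K] K ⊗[k] W')
    (hf : ∀ (σ : K ≃ₐ[k] K) z, f (σ • z) = σ • f z) :
    ∃ e : W ≃ₗ[k] W', ∀ z, f (1 ⊗ₜ[k] z) = 1 ⊗ₜ[k] e z := by
  have hmap : ∀ {U : Type x} [AddCommGroup U] [Module k U] (σ : K ≃ₐ[k] K) (z : K ⊗[k] U),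
      TensorProduct.map σ.toLinearMap LinearMap.id z = σ • z := fun σ z => by
    induction z with
    | zero => simp
    | add p q hp hq => rw [map_add, hp, hq, smul_add]
    | tmul c v => rfl
  have hmap' : ∀ (σ : K ≃ₐ[k] K) (z : K ⊗[k] W'),
      TensorProduct.map σ.toLinearMap LinearMap.id z = σ • z := fun σ z => by
    induction z with
    | zero => simp
    | add p q hp hq => rw [map_add, hp, hq, smul_add]
    | tmul c v => rfl
  have h1 : ∀ z : W, ∃ z' : W', f (1 ⊗ₜ[k] z) = 1 ⊗ₜ[k] z' := fun z =>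
    CSALib.exists_of_fixed K _ fun σ => by
      rw [hmap', ← hf, TensorProduct.smul_tmul']; simp
  have h2 : ∀ z : W', ∃ z' : W, f.symm (1 ⊗ₜ[k] z) = 1 ⊗ₜ[k] z' := fun z =>
    CSALib.exists_of_fixed K _ fun σ => by
      rw [hmap]
      apply f.injective
      rw [hf, f.apply_symm_apply, TensorProduct.smul_tmul']
      simp
  choose e he using h1
  choose e' he' using h2
  refine ⟨{ toFun := e, invFun := e', map_add' := fun p q => ?_, map_smul' := fun c p => ?_,
            left_inv := fun p => ?_, right_inv := fun p => ?_ }, he⟩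
  · refine CSALib.one_tmul_injective (k := k) K ?_
    change (1 : K) ⊗ₜ[k] e (p + q) = 1 ⊗ₜ[k] (e p + e q)
    rw [TensorProduct.tmul_add, ← he, ← he, ← he, TensorProduct.tmul_add, map_add]
  · refine CSALib.one_tmul_injective (k := k) K ?_
    change (1 : K) ⊗ₜ[k] e (c • p) = 1 ⊗ₜ[k] (c • e p)
    rw [TensorProduct.tmul_smul, ← he, ← he, TensorProduct.tmul_smul, ← algebraMap_smul K c,
      ← algebraMap_smul K c (f _), map_smul]
  · refine CSALib.one_tmul_injective (k := k) K ?_
    change (1 : K) ⊗ₜ[k] e' (e p) = 1 ⊗ₜ[k] p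
    rw [← he', ← he, f.symm_apply_apply]
  · refine CSALib.one_tmul_injective (k := k) K ?_
    change (1 : K) ⊗ₜ[k] e (e' p) = 1 ⊗ₜ[k] p
    rw [← he, ← he', f.apply_symm_apply]

variable {M : Type w} [AddCommGroup M] [Module K M]
  [DistribMulAction (K ≃ₐ[k] K) M] [SMulDistribClass (K ≃ₐ[k] K) K M]
  {N : Type x} [AddCommGroup N] [Module K N]
  [DistribMulAction (K ≃ₐ[k] K) N] [SMulDistribClass (K ≃ₐ[k] K) K N]
  {N' : Type y} [AddCommGroup N'] [Module K N']
  [DistribMulAction (K ≃ₐ[k] K) N'] [SMulDistribClass (K ≃ₐ[k] K) K N']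

/-- The comparison isomorphism of two trivialisations with cohomologous cocycles is equivariant. -/
theorem equivariant_of_cohomologous (g : M ≃ₗ[K] N) (g' : M ≃ₗ[K] N') (c : M ≃ₗ[K] M)
    (h : ∀ σ : K ≃ₐ[k] K, GalDesc.cocycle k g σ = c⁻¹ * GalDesc.cocycle k g' σ * σ • c)
    (σ : K ≃ₐ[k] K) (z : N) : g' (c (g.symm (σ • z))) = σ • g' (c (g.symm z)) := by
  have := congrArg (fun t : M ≃ₗ[K] M => g' (c (t (σ • g.symm z)))) (h σ)
  simp only [GalDesc.cocycle_apply, inv_smul_smul, g.apply_symm_apply] at this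
  rw [this, LinearEquiv.mul_apply, LinearEquiv.mul_apply, GalDesc.conj_smul_apply, inv_smul_smul]
  rw [show ∀ t, c ((c⁻¹ : M ≃ₗ[K] M) t) = t from c.apply_symm_apply, GalDesc.cocycle_apply,
    g'.apply_symm_apply, inv_smul_smul]

/-- Conversely. -/
theorem cohomologous_of_equivariant (g : M ≃ₗ[K] N) (g' : M ≃ₗ[K] N') (e : N ≃ₗ[K] N')
    (he : ∀ (σ : K ≃ₐ[k] K) z, e (σ • z) = σ • e z) (σ : K ≃ₐ[k] K) :
    GalDesc.cocycle k g σ = ((g.trans e).trans g'.symm)⁻¹ * GalDesc.cocycle k g' σ *
      σ • ((g.trans e).trans g'.symm) := by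
  refine LinearEquiv.ext fun x => ?_
  rw [LinearEquiv.mul_apply, LinearEquiv.mul_apply, GalDesc.conj_smul_apply, GalDesc.cocycle_apply,
    GalDesc.cocycle_apply, inv_smul_smul]
  change _ = ((g.trans e).trans g'.symm).symm _
  simp [← he]

end Morphisms

end GalDescLib
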